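import Groth.Agent.Lib.SimpleCok12.Basic
import Groth.Agent.Lib.Quad12.Main
import Groth.Agent.Lib.SerrePn27.ExtHH

/-!
# Simple cokernels on the quadric surface
-/

set_option autoImplicit false
set_option linter.all false
set_option backward.isDefEq.respectTransparency false
set_option maxHeartbeats 1000000

universe u

open CategoryTheory CategoryTheory.Limits AlgebraicGeometry
open GrothLib.CurveMult (scalarHom endScalar_natural)
open GrothLib.Cube (Pic clsMod pull HasCls hasCls_clsMod)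
open GrothLib.HodgeIndex (rep isInv_rep cls_rep)

noncomputable section

namespace GrothLib.SimpleCok12

section Gen

variable (k : Type u) [Field k] {X : Scheme.{u}} [X.Over (Spec (CommRingCat.of k))]

include k in
/-- Maps out of a sum of copies of an invertible module lift. -/
theorem exists_lift_sigma {S : ShortComplex X.Modules} (hS : S.ShortExact) {N L M : X.Modules} {r : ℕ}
    (eN : N ≅ ∐ fun _ : Fin r => L) (e : CohB1.tensorMod L M ≅ Coh.structureModule X)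
    (e' : CohB1.tensorMod M L ≅ Coh.structureModule X) (h : Subsingleton (Coh.HH X ((Euler.tF M).obj S.X₁) 1))
    (g : N ⟶ S.X₃) : ∃ ψ : N ⟶ S.X₂, ψ ≫ S.g = g := by
  choose ψ hψ using fun i : Fin r => CurveMult.exists_lift_of_H1 k hS e e'
    (Sigma.ι (fun _ : Fin r => L) i ≫ eN.inv ≫ g) h
  refine ⟨eN.hom ≫ Sigma.desc ψ, ?_⟩
  rw [Category.assoc, ← Iso.eq_inv_comp]
  refine Sigma.hom_ext _ _ fun i => ?_
  rw [colimit.ι_desc_assoc]
  exact hψ i

include k in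
/-- Maps out of a sum of copies of an invertible module vanish. -/
theorem hom_sigma_eq_zero {N N' L M : X.Modules} {r : ℕ} (eN : N ≅ ∐ fun _ : Fin r => L)
    (e : CohB1.tensorMod L M ≅ Coh.structureModule X) (e' : CohB1.tensorMod M L ≅ Coh.structureModule X)
    (h : Subsingleton (Coh.HH X ((Euler.tF M).obj N') 0)) (g : N ⟶ N') : g = 0 := by
  haveI := CurveMult.isEquivalence_tF e' e
  have key : ∀ g' : L ⟶ N', g' = 0 := fun g' => by
    have h0 : e.inv ≫ (Euler.tF M).map g' = 0 := (SerrePn27.homStructureEquiv (k := k) _).injective (Subsingleton.elim _ _)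
    refine (Euler.tF M).map_injective ((cancel_epi e.inv).1 ?_)
    rw [Functor.map_zero, comp_zero]
    exact h0
  refine (cancel_epi eN.inv).1 (Sigma.hom_ext _ _ fun i => ?_)
  rw [comp_zero, comp_zero]
  exact key _

theorem nonempty_inverse {L : X.Modules} {v : Pic X} (hL : HasCls L v) {w : Pic X} (h : v * w = 1) :
    Nonempty (CohB1.tensorMod L (rep w) ≅ Coh.structureModule X) ∧
      Nonempty (CohB1.tensorMod (rep w) L ≅ Coh.structureModule X) := by
  obtain ⟨e⟩ := (hL.tensor (Quad12.hasCls_rep' w)).iso (Cube.hasCls_structureModule X) h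
  exact ⟨⟨e⟩, ⟨GrTilde.tensorModComm (rep w) L ≪≫ e⟩⟩

/-- An endomorphism of a sum without cross terms is diagonal. -/
theorem eq_biprod_map {A B : X.Modules} (hAB : ∀ g : A ⟶ B, g = 0) (hBA : ∀ g : B ⟶ A, g = 0) (β : A ⊞ B ⟶ A ⊞ B) :
    β = biprod.map (biprod.inl ≫ β ≫ biprod.fst) (biprod.inr ≫ β ≫ biprod.snd) := by
  refine biprod.hom_ext' _ _ ?_ ?_ <;> refine biprod.hom_ext _ _ ?_ ?_
  · simp
  · rw [Category.assoc, hAB (biprod.inl ≫ β ≫ biprod.snd)]; simp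
  · rw [Category.assoc, hBA (biprod.inr ≫ β ≫ biprod.fst)]; simp
  · simp

/-- The diagonal parts of an automorphism without cross terms. -/
theorem exists_iso_parts {A B : X.Modules} (hAB : ∀ g : A ⟶ B, g = 0) (hBA : ∀ g : B ⟶ A, g = 0)
    (β : A ⊞ B ≅ A ⊞ B) : ∃ (β₁ : A ≅ A) (β₂ : B ≅ B), β.hom = biprod.map β₁.hom β₂.hom := by
  have h1 := eq_biprod_map hAB hBA β.hom
  have h2 := eq_biprod_map hAB hBA β.inv
  set a := biprod.inl ≫ β.hom ≫ biprod.fst
  set b := biprod.inr ≫ β.hom ≫ biprod.snd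
  set a' := biprod.inl ≫ β.inv ≫ biprod.fst
  set b' := biprod.inr ≫ β.inv ≫ biprod.snd
  have e1 : biprod.map a b ≫ biprod.map a' b' = 𝟙 _ := by rw [← h1, ← h2, β.hom_inv_id]
  have e2 : biprod.map a' b' ≫ biprod.map a b = 𝟙 _ := by rw [← h1, ← h2, β.inv_hom_id]
  refine ⟨⟨a, a', ?_, ?_⟩, ⟨b, b', ?_, ?_⟩, h1⟩
  · simpa using congrArg (fun t => biprod.inl ≫ t ≫ biprod.fst) e1
  · simpa using congrArg (fun t => biprod.inl ≫ t ≫ biprod.fst) e2
  · simpa using congrArg (fun t => biprod.inr ≫ t ≫ biprod.snd) e1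
  · simpa using congrArg (fun t => biprod.inr ≫ t ≫ biprod.snd) e2

theorem scalarHom_biprod {A B : X.Modules} (c : k) :
    biprod.map (scalarHom k A c) (scalarHom k B c) = scalarHom k (A ⊞ B) c := by
  refine biprod.hom_ext' _ _ ?_ ?_
  · rw [biprod.inl_map, ← endScalar_natural k (biprod.inl : A ⟶ A ⊞ B)]
  · rw [biprod.inr_map, ← endScalar_natural k (biprod.inr : B ⟶ A ⊞ B)]

end Gen

variable (k : Type u) [Field k] [Infinite k]

open Quad12 (Z O2 cl cl_mul cl_zero hasCls_O2 subsingleton_sigma_twist)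

/-- Simplicity of the cokernel. -/
theorem quadric_simple {r : ℕ} {P Q₁ Q₂ : (Z k).Modules} (eP : P ≅ ∐ fun _ : Fin r => O2 k (-1) (-1))
    (eQ₁ : Q₁ ≅ ∐ fun _ : Fin r => O2 k (-1) 0) (eQ₂ : Q₂ ≅ ∐ fun _ : Fin r => O2 k 0 (-1))
    (f : P ⟶ Q₁ ⊞ Q₂) [Mono f]
    (hstab : ∀ (β₁ : Q₁ ≅ Q₁) (β₂ : Q₂ ≅ Q₂) (γ : P ≅ P), γ.hom ≫ f = f ≫ biprod.map β₁.hom β₂.hom →
      ∃ c : k, β₁.hom = scalarHom k Q₁ c ∧ β₂.hom = scalarHom k Q₂ c)
    (φ : cokernel f ⟶ cokernel f) : ∃ c : k, φ = scalarHom k (cokernel f) c := by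
  haveI := Chow.isProper_toSpec 1 k
  haveI : IsProper (Z k ↘ Spec (CommRingCat.of k)) :=
    inferInstanceAs (IsProper (Quad12.pr1 k ≫ CohB1.ProjSpace.toSpec 1 k))
  haveI := Euler.isNoetherian_of_proper (X := Z k) k
  obtain ⟨⟨a₁⟩, ⟨a₁'⟩⟩ := nonempty_inverse (hasCls_O2 k (-1) 0) (w := cl k 1 0) (by rw [cl_mul]; simpa using cl_zero k)
  obtain ⟨⟨a₂⟩, ⟨a₂'⟩⟩ := nonempty_inverse (hasCls_O2 k 0 (-1)) (w := cl k 0 1) (by rw [cl_mul]; simpa using cl_zero k)
  have hfree : ∀ (N : (Z k).Modules) (a b : ℤ), (N ≅ ∐ fun _ : Fin r => O2 k a b) → FlatMod.IsFinLocFree N :=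
    fun N a b e => DCoh.isFinLocFree_of_iso e.symm
      (OX.isFinLocFree_sigma _ fun _ => Euler.isFinLocFree_of_isInvertible (hasCls_O2 k a b).1)
  have h12 : ∀ g : Q₁ ⟶ Q₂, g = 0 := hom_sigma_eq_zero k eQ₁ a₁ a₁'
    (subsingleton_sigma_twist k eQ₂ 1 0 0 fun i j hij => by omega)
  have h21 : ∀ g : Q₂ ⟶ Q₁, g = 0 := hom_sigma_eq_zero k eQ₂ a₂ a₂'
    (subsingleton_sigma_twist k eQ₁ 0 1 0 fun i j hij => by omega)
  have hS : (ShortComplex.mk f (cokernel.π f) (cokernel.condition f)).ShortExact :=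
    { exact := ShortComplex.exact_of_g_is_cokernel _ (cokernelIsCokernel f) }
  refine simple_of_stab k (Euler.isCoh_of_isFinLocFree (hfree _ _ _ eP))
    (Euler.isCoh_of_isFinLocFree (ExtLocFree8.isFinLocFree_biprod (hfree _ _ _ eQ₁) (hfree _ _ _ eQ₂))) f (fun g => ?_)
    (fun β γ hc => ?_) φ
  · obtain ⟨ψ₁, h₁⟩ := exists_lift_sigma k hS eQ₁ a₁ a₁'
      (subsingleton_sigma_twist k eP 1 0 1 fun i j hij => by omega) (biprod.inl ≫ g)
    obtain ⟨ψ₂, h₂⟩ := exists_lift_sigma k hS eQ₂ a₂ a₂'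
      (subsingleton_sigma_twist k eP 0 1 1 fun i j hij => by omega) (biprod.inr ≫ g)
    refine ⟨biprod.desc ψ₁ ψ₂, biprod.hom_ext' _ _ ?_ ?_⟩
    · rw [biprod.inl_desc_assoc]; exact h₁
    · rw [biprod.inr_desc_assoc]; exact h₂
  · obtain ⟨β₁, β₂, hβ⟩ := exists_iso_parts h12 h21 β
    rw [hβ] at hc
    obtain ⟨c, e₁, e₂⟩ := hstab β₁ β₂ γ hc
    exact ⟨c, by rw [hβ, e₁, e₂, scalarHom_biprod]⟩

end GrothLib.SimpleCok12
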