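import Groth.Agent.Lib.CurveMult.EndAlg
import Groth.Agent.Lib.CurveMult.ExtEnd
import Groth.Agent.Lib.CurveMult.TwistSplit
import Mathlib.RingTheory.Coprime.Basic

/-!
# Simplicity of cokernels with scalar stabiliser
-/

set_option autoImplicit false
set_option backward.isDefEq.respectTransparency false
set_option linter.style.haveILetI false

universe u

open CategoryTheory CategoryTheory.Limits AlgebraicGeometry Polynomial
open GrothLib.CurveMult (endScalar endEval scalarHom endScalar_natural)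

noncomputable section

namespace GrothLib.SimpleCok12

variable (k : Type u) [Field k] {X : Scheme.{u}} [X.Over (Spec (CommRingCat.of k))]
  [IsProper (X ↘ Spec (CommRingCat.of k))]

/-- All but finitely many shifts of an endomorphism of a coherent sheaf are invertible. -/
theorem exists_finset_shift {E : X.Modules} (hE : Coh.IsCoh E) (φ : E ⟶ E) :
    ∃ S : Finset k, ∀ c ∉ S, IsIso (φ - scalarHom k E c) := by
  classical
  obtain ⟨μ, hμ, hμ0⟩ := CurveMult.exists_monic_endEval_eq_zero k hE φ
  refine ⟨μ.roots.toFinset, fun c hc => ?_⟩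
  have hr : ¬ (Polynomial.X - Polynomial.C c) ∣ μ := fun h =>
    hc (Multiset.mem_toFinset.2 ((Polynomial.mem_roots hμ.ne_zero).2 (Polynomial.dvd_iff_isRoot.1 h)))
  obtain ⟨a, b, hab⟩ := (Polynomial.irreducible_X_sub_C c).coprime_iff_not_dvd.2 hr
  have h1 := congrArg (endEval k E φ) hab
  rw [map_add, map_mul, map_mul, hμ0, mul_zero, add_zero, map_one] at h1
  have h2 : endEval k E φ (Polynomial.X - Polynomial.C c) * endEval k E φ a = 1 := by
    rw [← map_mul, mul_comm, map_mul]
    exact h1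
  have hu : IsUnit (endEval k E φ (Polynomial.X - Polynomial.C c)) := isUnit_iff_exists.2 ⟨_, h2, h1⟩
  rw [map_sub, CurveMult.endEval_X, CurveMult.endEval_C] at hu
  exact (isUnit_iff_isIso _).1 hu

/-- The cokernel of a map with scalar stabiliser is simple, when its endomorphisms lift. -/
theorem simple_of_stab [Infinite k] {P Q : X.Modules} (hP : Coh.IsCoh P) (hQ : Coh.IsCoh Q) (f : P ⟶ Q) [Mono f]
    (hlift : ∀ g : Q ⟶ cokernel f, ∃ β : Q ⟶ Q, β ≫ cokernel.π f = g)
    (hstab : ∀ (β : Q ≅ Q) (γ : P ≅ P), γ.hom ≫ f = f ≫ β.hom → ∃ c : k, β.hom = scalarHom k Q c)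
    (φ : cokernel f ⟶ cokernel f) : ∃ c : k, φ = scalarHom k (cokernel f) c := by
  classical
  let S := ShortComplex.mk f (cokernel.π f) (cokernel.condition f)
  have hS : S.ShortExact := { exact := ShortComplex.exact_of_g_is_cokernel _ (cokernelIsCokernel f) }
  obtain ⟨β, hβ⟩ := hlift (cokernel.π f ≫ φ)
  obtain ⟨(γ : P ⟶ P), hγ⟩ := KernelFork.IsLimit.lift' hS.fIsKernel (f ≫ β) (by
    show (f ≫ β) ≫ cokernel.π f = 0
    rw [Category.assoc, hβ, cokernel.condition_assoc, Limits.zero_comp])
  have hγ' : γ ≫ f = f ≫ β := hγ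
  obtain ⟨s, hs⟩ := exists_finset_shift k hQ β
  obtain ⟨t, ht⟩ := exists_finset_shift k hP γ
  obtain ⟨c, hc⟩ := Infinite.exists_notMem_finset (s ∪ t)
  rw [Finset.mem_union, not_or] at hc
  haveI := hs c hc.1
  haveI := ht c hc.2
  obtain ⟨d, hd⟩ := hstab (asIso (β - scalarHom k Q c)) (asIso (γ - scalarHom k P c)) (by
    show (γ - scalarHom k P c) ≫ f = f ≫ (β - scalarHom k Q c)
    rw [Preadditive.sub_comp, Preadditive.comp_sub, hγ', endScalar_natural k f c])
  have hβ' : β = scalarHom k Q (d + c) := by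
    have h : β - scalarHom k Q c = scalarHom k Q d := hd
    rw [sub_eq_iff_eq_add] at h
    rw [h]
    exact (map_add (endScalar k Q) d c).symm
  refine ⟨d + c, (cancel_epi (cokernel.π f)).1 ?_⟩
  rw [← hβ, hβ', endScalar_natural]

omit [IsProper (X ↘ Spec (CommRingCat.of k))] in
theorem eq_scalarHom_iff {E : X.Modules} (φ : E ⟶ E) (c : k) :
    φ = scalarHom k E c ↔ (SheafOfModules.toSheaf X.ringCatSheaf).map φ =
      Coh.smulAb E (Coh.toGlobal (X ↘ Spec (CommRingCat.of k)) c) :=
  ⟨fun h => h ▸ CurveMult.toSheaf_endScalar k E c,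
    fun h => (SheafOfModules.toSheaf X.ringCatSheaf).map_injective (h.trans (CurveMult.toSheaf_endScalar k E c).symm)⟩

end GrothLib.SimpleCok12
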